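import Cfsg.Agent.BH.RowE.OutL
import Cfsg.Agent.KM.Own
import Cfsg.Agent.Classification.QDW.TypeHom
import Cfsg.Agent.H595.AbTwoSimple
import Cfsg.Agent.Blocks.Covering
import Cfsg.Agent.S0967
import Cfsg.Agent.S0969

/-!
# BH (S4524), rows: the defining characteristic (helper18)
-/

set_option autoImplicit false
set_option linter.unusedSectionVars false

namespace Cfsg.Agent.BH

open Cfsg Matrix Cfsg.Agent.KM Cfsg.Agent.TO Cfsg.Agent.Lib.SL2Mat Cfsg.Agent.Classification.QDW.TypeHom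

namespace RowE

variable {F : Type} [Field F] [Fintype F]

local notation "𝔾" => SpecialLinearGroup (Fin 2) F

/-- the sign of the central involution -/
noncomputable def sg (χ : IrrCharacter 𝔾) : ℂ := χ.1 (-1) / χ.1 1

theorem sg_cases (χ : IrrCharacter 𝔾) : (sg χ = 1 ∧ χ.1 (-1) = χ.1 1) ∨ (sg χ = -1 ∧ χ.1 (-1) = -χ.1 1) := by
  have h0 := Blocks.Basic.irr_one_ne_zero χ.2
  rcases H142.SLTwoBlocks.apply_neg_one χ with h | h
  · exact Or.inl ⟨by rw [sg, h, div_self h0], h⟩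
  · exact Or.inr ⟨by rw [sg, h, neg_div, div_self h0], h⟩

theorem apply_neg (χ : IrrCharacter 𝔾) (x : 𝔾) : χ.1 (-x) = sg χ * χ.1 x := by
  obtain ⟨c, hc, -⟩ := CharactersDeep.Extraspecial.exists_central_hom χ.2
  have h1 := hc x ⟨-1, H142.SLTwoBlocks.neg_one_mem_center⟩
  have h2 := hc 1 ⟨-1, H142.SLTwoBlocks.neg_one_mem_center⟩
  rw [mul_neg_one] at h1 h2
  rw [h1, sg, h2, mul_div_cancel_left₀ _ (Blocks.Basic.irr_one_ne_zero χ.2), mul_comm]

theorem tr_conj {x y : 𝔾} (h : IsConj x y) : tr x = tr y := by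
  obtain ⟨c, rfl⟩ := isConj_iff.1 h
  rw [tr_eq, tr_eq, val_mul, Matrix.trace_mul_comm, ← val_mul, inv_mul_cancel_left]

theorem tr_neg (x : 𝔾) : tr (-x) = -tr x := by
  rw [tr_eq, tr_eq, SpecialLinearGroup.coe_neg, Matrix.trace_neg]

/-- an automorphism which fixes all the characters with a given sign has no field part -/
theorem typ_eq_one (β : MulAut 𝔾) (Θ₀ : IrrCharacter 𝔾)
    (h : ∀ Θ : IrrCharacter 𝔾, sg Θ = sg Θ₀ → ∀ x, Θ.1 (β x) = Θ.1 x) : typ β = 1 := by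
  classical
  have : Finite (IrrCharacter 𝔾) := Characters.Core.finite_irr
  have := Fintype.ofFinite (IrrCharacter 𝔾)
  have key : ∀ x : 𝔾, IsConj (β x) x ∨ IsConj (-β x) x ∨ (IsConj (-x) x ∧ sg Θ₀ = -1) := by
    intro x
    by_contra hc
    simp only [not_or, not_and] at hc
    have a1 := H686.CharKit.col_orth (β x) x
    have a2 := H686.CharKit.col_orth (-β x) x
    have a3 := H686.CharKit.col_orth x x
    have a4 := H686.CharKit.col_orth (-x) x
    rw [if_neg hc.1] at a1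
    rw [if_neg hc.2.1] at a2
    rw [if_pos (IsConj.refl x)] at a3
    have e : ∑ χ : IrrCharacter 𝔾, χ.1 (β x) * (starRingEnd ℂ) (χ.1 x) +
        sg Θ₀ * ∑ χ : IrrCharacter 𝔾, χ.1 (-β x) * (starRingEnd ℂ) (χ.1 x) =
        ∑ χ : IrrCharacter 𝔾, χ.1 x * (starRingEnd ℂ) (χ.1 x) +
        sg Θ₀ * ∑ χ : IrrCharacter 𝔾, χ.1 (-x) * (starRingEnd ℂ) (χ.1 x) := by
      rw [Finset.mul_sum, Finset.mul_sum, ← Finset.sum_add_distrib, ← Finset.sum_add_distrib]
      refine Finset.sum_congr rfl fun χ _ => ?_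
      rw [apply_neg, apply_neg]
      by_cases hs : sg χ = sg Θ₀
      · rw [h χ hs]
      · rcases sg_cases χ with ⟨b1, -⟩ | ⟨b1, -⟩ <;> rcases sg_cases Θ₀ with ⟨b2, -⟩ | ⟨b2, -⟩
        · exact absurd (b1.trans b2.symm) hs
        · rw [b1, b2]; ring
        · rw [b1, b2]; ring
        · exact absurd (b1.trans b2.symm) hs
    have h0 : (Nat.card (Subgroup.centralizer ({x} : Set 𝔾)) : ℂ) ≠ 0 := Nat.cast_ne_zero.2 Nat.card_pos.ne'
    rw [a1, a2, a3, a4] at e
    split_ifs at e with h1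
    · rcases sg_cases Θ₀ with ⟨b2, -⟩ | ⟨b2, -⟩
      · rw [b2] at e
        exact h0 (by linear_combination -e / 2)
      · exact hc.2.2 h1 b2
    · exact h0 (by linear_combination -e)
  have key2 : ∀ t : F, typ β t = t ∨ typ β t = -t := by
    intro t
    obtain ⟨x, rfl⟩ := exists_tr t
    rcases key x with h1 | h1 | ⟨h1, h2⟩
    · exact Or.inl ((tr_apply β x).symm.trans (tr_conj h1))
    · have h2 := tr_conj h1
      rw [tr_neg, tr_apply] at h2
      exact Or.inr (neg_eq_iff_eq_neg.1 h2)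
    · have h3 := tr_conj h1
      rw [tr_neg] at h3
      have h4 : (2 : F) ≠ 0 := fun h4 => by
        have h5 : (-1 : 𝔾) = 1 := Subtype.ext (by
          rw [SpecialLinearGroup.coe_neg, neg_eq_iff_add_eq_zero, ← two_smul F, h4, zero_smul])
        rw [sg, h5, div_self (Blocks.Basic.irr_one_ne_zero Θ₀.2)] at h2
        norm_num at h2
      have h5 : tr x = 0 := (mul_eq_zero.1 (show 2 * tr x = 0 by linear_combination -h3)).resolve_left h4
      rw [h5, map_zero]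
      exact Or.inl rfl
  ext t
  show typ β t = t
  rcases key2 t with h1 | h1
  · exact h1
  · rcases key2 (t + 1) with h2 | h2 <;> rw [map_add, map_one] at h2
    · exact add_right_cancel h2
    · rw [h1] at h2 ⊢
      linear_combination (-t) * h2

variable {p : ℕ} [hp : Fact p.Prime] [CharP F p] {M : Ideal AlgInt}

theorem odd_card (h : p ≠ 2) : Odd (Fintype.card F) := by
  obtain ⟨n, -, hn⟩ := FiniteField.card F p
  rw [hn]
  exact (hp.out.odd_of_ne_two h).pow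

theorem st_unique (p : ℕ) [Fact p.Prime] [CharP F p] (h5 : 5 ≤ Fintype.card F) {Θ Θ' : IrrCharacter 𝔾}
    (h : Θ.1 1 = Fintype.card F) (h' : Θ'.1 1 = Fintype.card F) : Θ = Θ' := by
  have h1 : Nat.card {χ : IrrCharacter 𝔾 // χ.1 1 = (Fintype.card F : ℂ)} = 1 := by
    by_cases h2 : p = 2
    · subst h2
      exact ((S2300.result (F := F)).2 (by omega)).2.1
    · exact ((S2299.result (F := F) (odd_card h2)).2 h5).2.1
  exact congrArg Subtype.val ((Nat.card_eq_one_iff_unique.1 h1).1.elim ⟨Θ, h⟩ ⟨Θ', h'⟩)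

theorem same_sl2 (hM : IsPModular p M) {Θ₀ Θ : IrrCharacter 𝔾} (h0 : Θ₀.1 1 ≠ Fintype.card F)
    (h : Θ.1 1 ≠ Fintype.card F) (hs : sg Θ = sg Θ₀) : SameBlock M Θ₀.1 Θ.1 := by
  have := hM.2.1.isPrime
  by_cases h2 : p = 2
  · subst h2
    exact Blocks.Basic.sameBlock_trans (Blocks.Basic.sameBlock_symm ((H595.AbTwo.mem_principal_iff hM Θ₀).2 h0))
      ((H595.AbTwo.mem_principal_iff hM Θ).2 h)
  have h3 := Blocks.Basic.mem_blockOf_self (M := M) Θ₀
  show Θ ∈ blockOf M Θ₀.1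
  have h4 := Blocks.Basic.irr_one_ne_zero Θ₀.2
  rcases ((S2439.result p h2 M hM).1 (blockOf M Θ₀.1)).1 ⟨Θ₀, rfl⟩ with e | e | e <;> rw [e] at h3 ⊢
  · exact absurd h3 h0
  · rcases sg_cases Θ with ⟨b1, b2⟩ | ⟨b1, b2⟩
    · exact ⟨b2, h⟩
    · rw [b1, sg, h3.1, div_self h4] at hs
      norm_num at hs
  · rcases sg_cases Θ with ⟨b1, b2⟩ | ⟨b1, b2⟩
    · rw [b1, sg, show Θ₀.1 (-1) = -Θ₀.1 1 from h3, neg_div, div_self h4] at hs
      norm_num at hs
    · exact b2

variable {K : Type} [Group K]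

/-- blocks descend along a surjection with kernel of order prime to `p` -/
theorem desc (hM : IsPModular p M) {D : Type} [Group D] [Finite D] (f : D →* K) (hf : Function.Surjective f)
    (hk : ¬ p ∣ Nat.card f.ker) (ψ : IrrCharacter K) (Θ : IrrCharacter D) (h : SameBlock M (ψ.1 ∘ f) Θ.1) :
    ∃ ψ' ∈ Fn (blockOf M ψ.1), ∀ d, ψ' (f d) = Θ.1 d := by
  let e := QuotientGroup.quotientKerEquivOfSurjective f hf
  have he : ∀ d : D, e d = f d := fun _ => rfl
  obtain ⟨ψ', h1, h2⟩ := S0967.result p M hM f.ker hk ⟨_, Characters.Core.isIrr_comp e.toMonoidHom e.surjective ψ.2⟩ Θ h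
  refine ⟨fun n => ψ'.1 (e.symm n), ⟨⟨_, Characters.Core.isIrr_comp e.symm.toMonoidHom e.symm.surjective ψ'.2⟩,
    fun n => ?_, rfl⟩, fun d => ?_⟩
  · have h3 := h2 (e.symm n)
    rw [← Blocks.Covering.centralChar_comp_equiv e.symm, ← Blocks.Covering.centralChar_comp_equiv e.symm] at h3
    convert h3 using 3
    · funext x
      exact congrArg ψ.1 (e.apply_symm_apply x).symm
    · rfl
  · show ψ'.1 (e.symm (f d)) = Θ.1 d
    rw [← he, e.symm_apply_apply]
    exact (congrFun h1 d).symm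

/-- `β` lifts `α` -/
def Lf {D : Type} [Group D] (φ : D →* K) (α : MulAut K) (β : MulAut D) : Prop := ∀ x, α (φ x) = φ (β x)

section Lf

variable {D : Type} [Group D] {φ : D →* K} {α α' : MulAut K} {β β' : MulAut D}

theorem Lf.mul (h : Lf φ α β) (h' : Lf φ α' β') : Lf φ (α * α') (β * β') := fun x => by
  rw [MulAut.mul_apply, h', h, MulAut.mul_apply]

theorem Lf.inv (h : Lf φ α β) : Lf φ α⁻¹ β⁻¹ := fun x => α.injective (by
  rw [MulAut.apply_inv_self, h, MulAut.apply_inv_self])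

theorem Lf.inn (hφ : Function.Surjective φ) (h : Lf φ α β) {s : D} (hs : ∀ x, β x = s * x * s⁻¹) : α ∈ Inn K :=
  ⟨φ s, MulEquiv.ext fun y => by
    obtain ⟨x, rfl⟩ := hφ y
    rw [h, hs, map_mul, map_mul, map_inv, MulAut.conj_apply]⟩

end Lf

theorem exists_lf {φ : 𝔾 →* K} (hφ : Function.Surjective φ) (hk : φ.ker ≤ Subgroup.center 𝔾) (α : MulAut K) :
    ∃ β, Lf φ α β := by
  obtain ⟨g, s, h⟩ := Lib.AutSL2.exists_gl_ringEquiv φ hφ hk α
  exact ⟨conjGL g * fieldAut s, h⟩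

theorem not_dvd_ker {φ : 𝔾 →* K} (hk : φ.ker ≤ Subgroup.center 𝔾) : ¬ p ∣ Nat.card φ.ker := fun h => by
  have h1 := h.trans (Subgroup.card_dvd_of_le hk)
  rw [H142.SLTwoBlocks.card_center_SL (by norm_num)] at h1
  obtain ⟨n, -, hn⟩ := FiniteField.card F p
  have hq : p ∣ Fintype.card F := by rw [hn]; exact dvd_pow_self p n.ne_zero
  have h2 := Nat.dvd_sub hq (h1.trans (Nat.gcd_dvd_right _ _))
  rw [Nat.sub_sub_self Fintype.card_pos] at h2
  exact hp.out.one_lt.ne' (Nat.dvd_one.1 h2)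

variable [Finite K] {b : Set (IrrCharacter K)} {Q : Subgroup K} {θ : K → ℂ} {S : Type} [Group S] {σ : K →* S}

/-- the Steinberg character has defect zero -/
theorem bot_of_st (H : QHyp p M b Q θ σ) {φ : 𝔾 →* K} (hφ : Function.Surjective φ) {ψ : IrrCharacter K} (hψ : ψ ∈ b)
    (h : ψ.1 1 = Fintype.card F) : Q = ⊥ := by
  have := H.can.hM.2.1.isPrime
  have h1 := Blocks.Basic.charDegree_of_eq h
  have h2 : charDegree ψ.1 ∣ Nat.card K :=
    (H669.Basic.charDegree_dvd_index_center ψ.2).trans (Subgroup.index_dvd_card _)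
  have h3 := Subgroup.card_dvd_of_surjective φ hφ
  rw [S0276.card_sl_two rfl] at h3
  obtain ⟨n, -, hn⟩ := FiniteField.card F p
  have hq : p ∣ Fintype.card F := by rw [hn]; exact dvd_pow_self p n.ne_zero
  have h4 : 1 < Fintype.card F := Fintype.one_lt_card
  have h5 : 1 < Fintype.card F ^ 2 := Nat.one_lt_pow two_ne_zero h4
  have h6 : ¬ p ∣ Fintype.card F ^ 2 - 1 := fun h6 => by
    have h7 := Nat.dvd_sub (dvd_pow hq two_ne_zero) h6
    rw [Nat.sub_sub_self h5.le] at h7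
    exact hp.out.one_lt.ne' (Nat.dvd_one.1 h7)
  have h7 := Nat.factorization_le_factorization_of_dvd_right (a := p) h3 Nat.card_pos.ne'
    (mul_ne_zero (by omega) (by omega))
  rw [Nat.factorization_mul (by omega) (by omega), Finsupp.add_apply, Nat.factorization_eq_zero_of_not_dvd h6] at h7
  have h8 := Nat.factorization_le_factorization_of_dvd_right (a := p) h2 (by omega) Nat.card_pos.ne'
  have h9 := (S0969.result p M H.can.hM ⊥ IsPGroup.of_bot bot_le ψ (by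
    rw [Subgroup.index_bot]
    rw [h1] at h8 ⊢
    omega)).1
  rw [← Blocks.Basic.isPBlock_eq_blockOf H.hb hψ] at h9
  rw [← Subgroup.card_eq_one, S0908.result p M H.can.hM b H.hb Q H.can.hD, ← S0908.result p M H.can.hM b H.hb ⊥ h9,
    Subgroup.card_bot]

/-- **the quotients of `SL₂(q)`** -/
theorem sl2_main (H : QHyp p M b Q θ σ) (h5 : 5 ≤ Fintype.card F) {φ : 𝔾 →* K} (hφ : Function.Surjective φ)
    (hk : φ.ker ≤ Subgroup.center 𝔾) : Q = ⊥ ∨ (AutOK p b Q θ ∧ (p = 2 → Three b)) := by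
  obtain ⟨ψ, hψ⟩ := H.hb
  have := H.can.hM.2.1.isPrime
  let Θ₀ : IrrCharacter 𝔾 := ⟨ψ.1 ∘ φ, Characters.Core.isIrr_comp φ hφ ψ.2⟩
  by_cases h0 : Θ₀.1 1 = Fintype.card F
  · exact Or.inl (bot_of_st H hφ (hψ ▸ Blocks.Basic.mem_blockOf_self ψ) (by rw [← h0, ← map_one φ]; rfl))
  have key : ∀ Θ : IrrCharacter 𝔾, Θ.1 1 ≠ Fintype.card F → sg Θ = sg Θ₀ → ∃ ψ' ∈ Fn b, ∀ d, ψ' (φ d) = Θ.1 d :=
    fun Θ h1 h2 => hψ ▸ desc H.can.hM φ hφ (not_dvd_ker hk) ψ Θ (same_sl2 H.can.hM h0 h1 h2)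
  refine Or.inr ⟨autOK_of_ab ?_ fun α hα hfix => ?_, ?_⟩
  · rw [commutator_def, Subgroup.commutator_le]
    intro α _ α' _
    obtain ⟨β, h1⟩ := exists_lf hφ hk α
    obtain ⟨β', h2⟩ := exists_lf hφ hk α'
    obtain ⟨s, hs⟩ := Lib.AutSL2Out.commutator_inner β β'
    exact (((h1.mul h2).mul h1.inv).mul h2.inv).inn hφ hs
  · obtain ⟨β, h1⟩ := exists_lf hφ hk α
    obtain ⟨g, rfl⟩ := (typ_eq_one_iff β).1 (typ_eq_one β Θ₀ fun Θ hs x => by
      by_cases h2 : Θ.1 1 = Fintype.card F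
      · exact congrFun (congrArg Subtype.val (st_unique p h5
          (Θ := ⟨_, Characters.Core.isIrr_comp β.toMonoidHom β.surjective Θ.2⟩) (by
            rw [← h2]
            exact congrArg Θ.1 (map_one β)) h2)) x
      · obtain ⟨ψ', h3, h4⟩ := key Θ h2 hs
        rw [← h4, ← h4, ← h1]
        exact congrFun (hfix ψ' h3) _)
    have hg : g.1.det ≠ 0 := (Matrix.GeneralLinearGroup.det g).ne_zero
    by_cases h2 : p = 2
    · subst h2
      obtain ⟨d, hd⟩ := FiniteField.isSquare_of_char_two (ringChar.eq F 2) g.1.det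
      obtain ⟨s, hs⟩ := Lib.AutSL2Out.conjGL_of_det_sq g d (fun e => hg (by rw [hd, e, mul_zero])) (by rw [hd, sq])
      exact h1.inn hφ hs
    · obtain ⟨s, hs⟩ := Lib.AutSL2Out.conjGL_of_det_sq (g * g) g.1.det hg (by rw [Units.val_mul, det_mul, sq])
      have h3 := (h1.mul h1).inn hφ (by rw [← map_mul]; exact hs)
      obtain ⟨k, hk⟩ := pElt_iff.1 hα
      obtain ⟨m, hm⟩ := (hp.out.odd_of_ne_two h2).pow (n := k)
      rw [hm, pow_succ, pow_mul, sq] at hk
      exact (Subgroup.mul_mem_cancel_left _ (pow_mem h3 m)).1 (hk ▸ one_mem _)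
  · rintro rfl
    have h1 : (-1 : 𝔾) = 1 := Subtype.ext (by
      rw [SpecialLinearGroup.coe_neg, neg_eq_iff_add_eq_zero, ← two_smul F, CharTwo.two_eq_zero (R := F), zero_smul])
    have h2 : ∀ Θ : IrrCharacter 𝔾, sg Θ = 1 := fun Θ => by
      rw [sg, h1, div_self (Blocks.Basic.irr_one_ne_zero Θ.2)]
    have h3 : ∀ d : ℕ, d ≠ Fintype.card F → ∀ c : ℂ, c = d → Nat.card {χ : IrrCharacter 𝔾 // χ.1 1 = c} ≠ 0 →
        ∃ χ ∈ Fn b, χ 1 = d := by
      rintro d hd _ rfl h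
      obtain ⟨⟨Θ, h4⟩⟩ := (Nat.card_ne_zero.1 h).1
      obtain ⟨ψ', h6, h7⟩ := key Θ (by rw [h4]; exact_mod_cast hd) (by rw [h2, h2])
      exact ⟨ψ', h6, by rw [← h4, ← h7, map_one]⟩
    obtain ⟨c1, -, c2, c3⟩ := (S2300.result (F := F)).2 (by omega)
    obtain ⟨χ₁, a1, e1⟩ := h3 1 (by omega) 1 (by simp) (by omega)
    obtain ⟨χ₂, a2, e2⟩ := h3 (Fintype.card F + 1) (by omega) _ (Nat.cast_succ _).symm (by omega)
    obtain ⟨χ₃, a3, e3⟩ := h3 (Fintype.card F - 1) (by omega) _ (Nat.cast_pred (by omega)).symm (by omega)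
    have h4 : ∀ (χ χ' : K → ℂ) (d d' : ℕ), χ 1 = d → χ' 1 = d' → d ≠ d' → ∀ α : MulAut K, χ ∘ α ≠ χ' :=
      fun χ χ' d d' h h' hd α e => hd (by
        have h6 := congrFun e 1
        rw [Function.comp_apply, map_one, h, h'] at h6
        exact_mod_cast h6)
    exact ⟨χ₁, a1, χ₂, a2, χ₃, a3, fun α => ⟨h4 _ _ _ _ e1 e2 (by omega) α, h4 _ _ _ _ e1 e3 (by omega) α,
      h4 _ _ _ _ e2 e3 (by omega) α⟩⟩

theorem nil_of_card (h : Nat.card Q ≤ 2) : In Q θ ≤ Ce Q := by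
  intro t ht
  refine Subgroup.mem_centralizer_iff.2 fun u hu => by_contra fun h1 => ?_
  have := Fintype.ofFinite Q
  rw [Nat.card_eq_fintype_card, ← not_lt, Fintype.two_lt_card_iff] at h
  refine h ⟨1, ⟨u, hu⟩, ⟨t * u * t⁻¹, (ht.1 u).2 hu⟩, fun e => h1 ?_, fun e => h1 ?_, fun e => h1 ?_⟩
  · rw [← show 1 = u from congrArg Subtype.val e, one_mul, mul_one]
  · have h2 : u = 1 := by simpa using (show 1 = t * u * t⁻¹ from congrArg Subtype.val e).symm
    rw [h2, one_mul, mul_one]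
  · exact eq_mul_inv_iff_mul_eq.1 (show u = t * u * t⁻¹ from congrArg Subtype.val e)

/-- **the defining characteristic** -/
theorem lie_main [Finite S] (H : QHyp p M b Q θ σ) (hS : IsLieTypeChar p S) :
    Nat.card Q ≤ p ∨ (p = 2 ∧ Nat.card Q ≤ 4 ∧ OutC S) ∨ (AutOK p b Q θ ∧ (p = 2 → Three b)) := by
  have hbot : Q = ⊥ → Nat.card Q ≤ p := fun h => by
    rw [h, Subgroup.card_bot]
    exact hp.out.one_le
  rcases KM.Own.cen_or_syl σ H.surj H.ker.le hS H.can.hM H.hb H.can.hD with h | ⟨P, rfl⟩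
  · exact Or.inl (hbot (H.eq_bot h))
  have hP : IsMulCommutative (P : Subgroup K) :=
    ⟨⟨fun x y => Subtype.ext (Subgroup.mem_centralizer_iff.1 (H.can.ab y.2) x x.2)⟩⟩
  obtain ⟨E, _, _, _, ⟨e⟩⟩ := KM.Own.psl2_of_comm hS (P.mapSurjective H.surj) (by
    rw [Sylow.coe_mapSurjective]
    infer_instance)
  by_cases h5 : 5 ≤ Fintype.card E
  · have H' := H.congr e
    obtain ⟨φ, hφ, h1⟩ := TO.DC.exists_cover (p := p) h5 H.qs.1.commutator_eq_top H'.surj H'.ker.le (H'.ker ▸ H.zp)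
    refine (sl2_main H h5 hφ fun x hx => ?_).imp hbot Or.inr
    have h2 := h1 x
    rw [hx, map_one] at h2
    exact (QuotientGroup.eq_one_iff x).1 h2.symm
  have h1 := H.card_dvd
  rw [Nat.card_congr e.toEquiv] at h1
  have h2 := h1.trans (Subgroup.card_dvd_of_surjective _ (QuotientGroup.mk'_surjective
    (Subgroup.center (SpecialLinearGroup (Fin 2) E))))
  obtain ⟨k, hk⟩ := IsPGroup.iff_card.1 H.pg
  rw [S0276.card_sl_two rfl, hk] at h2
  rw [hk]
  obtain ⟨n, -, hn⟩ := FiniteField.card E p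
  have h6 : p ∣ Fintype.card E := by rw [hn]; exact dvd_pow_self p n.ne_zero
  have h7 : 1 < Fintype.card E := Fintype.one_lt_card
  have h9 := hp.out.two_le
  have h3 : ∀ j, ¬ p ^ (j + 1) ∣ Fintype.card E * (Fintype.card E ^ 2 - 1) → p ^ k ≤ p ^ j := fun j hj =>
    Nat.pow_le_pow_right hp.out.pos (not_lt.1 fun h => hj ((pow_dvd_pow p h).trans h2))
  by_cases h4 : Fintype.card E = 4
  · have h8 : p = 2 := (Nat.prime_dvd_prime_iff_eq hp.out Nat.prime_two).1
      (hp.out.dvd_of_dvd_pow (show p ∣ 2 ^ 2 from h6.trans h4.dvd))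
    subst h8
    exact Or.inr (Or.inl ⟨rfl, h3 2 (by rw [h4]; decide), outC_psl2 h4.ge e⟩)
  refine Or.inl ((h3 1 ?_).trans (pow_one p).le)
  have h8 := Nat.le_of_dvd (by omega) h6
  generalize Fintype.card E = q at *
  have h10 : q ≤ 3 := by omega
  interval_cases q <;> interval_cases p <;> omega

end RowE

open RowE

/-- **the defining characteristic, odd primes** -/
theorem rowO_lie : RowOFor CLie := by
  intro p hp h2 S _ _ _ _ hS K _ _ σ M b Q θ H
  rcases lie_main H hS with h | h | h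
  · refine rowO_cyclic ?_
    obtain ⟨k, hk⟩ := IsPGroup.iff_card.1 H.pg
    rw [hk, ← pow_one p, ← pow_mul, one_mul, Nat.pow_le_pow_iff_right hp.out.one_lt] at h
    interval_cases k
    · have := (Nat.card_eq_one_iff_unique.1 hk).1
      exact isCyclic_of_subsingleton
    · exact isCyclic_of_prime_card (hk.trans (pow_one p))
  · exact absurd h.1 h2
  · exact h.1

/-- **the defining characteristic `2`** -/
theorem row2_lie : Row2For CLie := by
  intro S _ _ _ _ hS K _ _ σ M b Q θ H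
  rcases lie_main H hS with h | h | h
  exacts [Or.inl (nil_of_card h), Or.inr (Or.inl ⟨idx_of_card h.2.1, h.2.2⟩), Or.inr (Or.inr ⟨h.2 rfl, h.1⟩)]

end Cfsg.Agent.BH
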