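import Cfsg.Agent.BH.RowE.Gen

/-!
# BH (S4524), rows: the split into families (helper18)

`RowsO.known`, `Rows2.known` (over the known simple groups), `RowsO.aut`, `Rows2.aut` (the statement `AUT`).
-/

set_option autoImplicit false

namespace Cfsg.Agent.BH

open Cfsg Cfsg.Agent.KM Cfsg.Agent.TO

namespace RowE

/-- the property `W` for the nonabelian simple groups in the family `C p` -/
def For (p : ℕ) (W : ∀ (S : Type) [Group S], Prop) (C : ℕ → ∀ (S : Type) [Group S], Prop) : Prop :=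
  ∀ (S : Type) [Group S] [Finite S] [IsSimpleGroup S], ¬ IsMulCommutative S → C p S → W S

/-- the property `W` for all families -/
structure Fams (p : ℕ) (W : ∀ (S : Type) [Group S], Prop) : Prop where
  alt : For p W CAlt
  lie : For p W CLie
  psl : For p W CPsl
  psp : For p W CPsp
  psu : For p W CPsu
  oodd : For p W COdd
  oplus : For p W CPlus
  ominus : For p W CMinus
  g2 : For p W CG2
  f4 : For p W CF4
  e6 : For p W CE6
  e7 : For p W CE7
  e8 : For p W CE8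
  te6 : For p W CTe6
  td4 : For p W CTd4
  sz : For p W CSz
  ree : For p W CRee
  tf4 : For p W CTf4
  tits : For p W CTits
  spor : For p W CSpor

theorem Fams.known {p : ℕ} [Fact p.Prime] {W : ∀ (S : Type) [Group S], Prop} (R : Fams p W) :
    For p W (fun _ S _ => IsKnownSimple' S) := by
  intro S _ _ _ hS hC
  have lie : IsLieTypeChar p S → W S := fun h => R.lie S hS h
  have exc : IsExceptionalChevChar p S → W S := fun h =>
    lie (Or.inr (Or.inr (Or.inr (Or.inr (Or.inr (Or.inr (Or.inl h)))))))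
  have tw : IsTwistedE6D4Char p S → W S := fun h =>
    lie (Or.inr (Or.inr (Or.inr (Or.inr (Or.inr (Or.inr (Or.inr (Or.inl h))))))))
  rcases hC with h | h | h | h | h | h | h | h | h | h
  · exfalso
    apply hS
    have : Fact (Nat.card S).Prime := ⟨h⟩
    have := isCyclic_of_prime_card (p := Nat.card S) (α := S) rfl
    exact ⟨⟨fun a b => (IsCyclic.commGroup (α := S)).mul_comm a b⟩⟩
  · exact R.alt S hS h
  · obtain ⟨F, iF, iN, n, hn, hn2, he⟩ := h
    by_cases hF : (p : F) = 0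
    · exact lie (Or.inl ⟨F, iF, iN, charP_of_cast hF, n, hn, hn2, he⟩)
    · exact R.psl S hS ⟨F, iF, iN, n, hF, hn, hn2, he⟩
  · obtain ⟨F, iF, iN, n, hn, hn2, he⟩ := h
    by_cases hF : (p : F) = 0
    · exact lie (Or.inr (Or.inl ⟨F, iF, iN, charP_of_cast hF, n, hn, hn2, he⟩))
    · exact R.psp S hS ⟨F, iF, iN, n, hF, hn, hn2, he⟩
  · obtain ⟨F, iF, iN, n, q, hq, hn, hn2, he⟩ := h
    by_cases hF : (p : F) = 0
    · exact lie (Or.inr (Or.inr (Or.inl ⟨F, iF, iN, charP_of_cast hF, n, q, hq, hn, hn2, he⟩)))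
    · exact R.psu S hS ⟨F, iF, iN, n, q, hF, hq, hn, hn2, he⟩
  · obtain ⟨F, iF, iN, m, hm, hodd, he⟩ := h
    by_cases hF : (p : F) = 0
    · exact lie (Or.inr (Or.inr (Or.inr (Or.inl ⟨F, iF, iN, charP_of_cast hF, m, hm, hodd, he⟩))))
    · exact R.oodd S hS ⟨F, iF, iN, m, hF, hm, hodd, he⟩
  · obtain ⟨F, iF, iN, m, hm, he⟩ := h
    by_cases hF : (p : F) = 0
    · exact lie (Or.inr (Or.inr (Or.inr (Or.inr (Or.inl ⟨F, iF, iN, charP_of_cast hF, m, hm, he⟩)))))
    · exact R.oplus S hS ⟨F, iF, iN, m, hF, hm, he⟩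
  · obtain ⟨F, iF, iN, m, a, b, hm, hab, he⟩ := h
    by_cases hF : (p : F) = 0
    · exact lie (Or.inr (Or.inr (Or.inr (Or.inr (Or.inr (Or.inl
        ⟨F, iF, iN, charP_of_cast hF, m, a, b, hm, hab, he⟩))))))
    · exact R.ominus S hS ⟨F, iF, iN, m, a, b, hF, hm, hab, he⟩
  · rcases h with h | h | h | h | h | h | h | h | h | h | h
    · obtain ⟨F, iF, iN, h3, he⟩ := h
      by_cases hF : (p : F) = 0
      · exact exc ⟨F, iF, iN, charP_of_cast hF, Or.inl ⟨h3, he⟩⟩
      · exact R.g2 S hS ⟨F, iF, iN, hF, h3, he⟩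
    · obtain ⟨F, iF, iN, he⟩ := h
      by_cases hF : (p : F) = 0
      · exact exc ⟨F, iF, iN, charP_of_cast hF, Or.inr (Or.inl he)⟩
      · exact R.f4 S hS ⟨F, iF, iN, hF, he⟩
    · obtain ⟨F, iF, iN, he⟩ := h
      by_cases hF : (p : F) = 0
      · exact exc ⟨F, iF, iN, charP_of_cast hF, Or.inr (Or.inr (Or.inl he))⟩
      · exact R.e6 S hS ⟨F, iF, iN, hF, he⟩
    · obtain ⟨F, iF, iN, he⟩ := h
      by_cases hF : (p : F) = 0
      · exact exc ⟨F, iF, iN, charP_of_cast hF, Or.inr (Or.inr (Or.inr (Or.inl he)))⟩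
      · exact R.e7 S hS ⟨F, iF, iN, hF, he⟩
    · obtain ⟨F, iF, iN, he⟩ := h
      by_cases hF : (p : F) = 0
      · exact exc ⟨F, iF, iN, charP_of_cast hF, Or.inr (Or.inr (Or.inr (Or.inr he)))⟩
      · exact R.e8 S hS ⟨F, iF, iN, hF, he⟩
    · obtain ⟨K, iF, iN, q, hq, hK, he⟩ := h
      by_cases hF : (p : K) = 0
      · exact tw ⟨K, iF, iN, charP_of_cast hF, q, hq, Or.inl ⟨hK, he⟩⟩
      · exact R.te6 S hS ⟨K, iF, iN, q, hF, hq, hK, he⟩
    · obtain ⟨K, iF, iN, q, hq, hK, he⟩ := h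
      by_cases hF : (p : K) = 0
      · exact tw ⟨K, iF, iN, charP_of_cast hF, q, hq, Or.inr ⟨hK, he⟩⟩
      · exact R.td4 S hS ⟨K, iF, iN, q, hF, hq, hK, he⟩
    · by_cases hp2 : p = 2
      · exact lie (Or.inr (Or.inr (Or.inr (Or.inr (Or.inr (Or.inr (Or.inr (Or.inr (Or.inl ⟨hp2, h⟩)))))))))
      · exact R.sz S hS ⟨hp2, h⟩
    · by_cases hp3 : p = 3
      · exact lie (Or.inr (Or.inr (Or.inr (Or.inr (Or.inr (Or.inr (Or.inr (Or.inr (Or.inr (Or.inr
          ⟨hp3, h⟩))))))))))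
      · exact R.ree S hS ⟨hp3, h⟩
    · by_cases hp2 : p = 2
      · exact lie (Or.inr (Or.inr (Or.inr (Or.inr (Or.inr (Or.inr (Or.inr (Or.inr (Or.inr (Or.inl ⟨hp2, h⟩))))))))))
      · exact R.tf4 S hS ⟨hp2, h⟩
    · exact R.tits S hS h
  · exact R.spor S hS h

end RowE

open RowE

/-- the rows for the odd primes; all the rows of Lie type except `lie` are in cross characteristic -/
structure RowsO : Prop where
  alt : RowOFor CAlt
  lie : RowOFor CLie
  psl : RowOFor CPsl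
  psp : RowOFor CPsp
  psu : RowOFor CPsu
  oodd : RowOFor COdd
  oplus : RowOFor CPlus
  ominus : RowOFor CMinus
  g2 : RowOFor CG2
  f4 : RowOFor CF4
  e6 : RowOFor CE6
  e7 : RowOFor CE7
  e8 : RowOFor CE8
  te6 : RowOFor CTe6
  td4 : RowOFor CTd4
  sz : RowOFor CSz
  ree : RowOFor CRee
  tf4 : RowOFor CTf4
  tits : RowOFor CTits
  spor : RowOFor CSpor

/-- the rows for the prime `2` (the Suzuki groups and the groups `²F₄` belong to `lie`) -/
structure Rows2 : Prop where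
  alt : Row2For CAlt
  lie : Row2For CLie
  psl : Row2For CPsl
  psp : Row2For CPsp
  psu : Row2For CPsu
  oodd : Row2For COdd
  oplus : Row2For CPlus
  ominus : Row2For CMinus
  g2 : Row2For CG2
  f4 : Row2For CF4
  e6 : Row2For CE6
  e7 : Row2For CE7
  e8 : Row2For CE8
  te6 : Row2For CTe6
  td4 : Row2For CTd4
  ree : Row2For CRee
  tits : Row2For CTits
  spor : Row2For CSpor

theorem RowsO.known (R : RowsO) : RowOFor (fun _ S _ => IsKnownSimple' S) := fun p _ hp =>
  Fams.known (W := fun S _ => RowO p S) ⟨R.alt p hp, R.lie p hp, R.psl p hp, R.psp p hp, R.psu p hp, R.oodd p hp, R.oplus p hp, R.ominus p hp, R.g2 p hp, R.f4 p hp,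
    R.e6 p hp, R.e7 p hp, R.e8 p hp, R.te6 p hp, R.td4 p hp, R.sz p hp, R.ree p hp, R.tf4 p hp, R.tits p hp, R.spor p hp⟩

theorem Rows2.known (R : Rows2) : Row2For (fun _ S _ => IsKnownSimple' S) :=
  Fams.known (p := 2) (W := fun S _ => Row2 S) ⟨R.alt, R.lie, R.psl, R.psp, R.psu, R.oodd, R.oplus, R.ominus, R.g2, R.f4, R.e6, R.e7, R.e8, R.te6, R.td4,
    fun _ _ _ _ _ h => absurd rfl h.1, R.ree, fun _ _ _ _ _ h => absurd rfl h.1, R.tits, R.spor⟩

section

variable {p : ℕ} {M : Ideal AlgInt} {K : Type} [Group K] {b : Set (IrrCharacter K)} {Q : Subgroup K} {θ : K → ℂ}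
  {S : Type} [Group S] {σ : K →* S}

theorem QHyp.simple (H : QHyp p M b Q θ σ) : IsSimpleGroup S := by
  have := H.qs.2
  exact ((QuotientGroup.quotientMulEquivOfEq H.ker.symm).trans
    (QuotientGroup.quotientKerEquivOfSurjective σ H.surj)).symm.isSimpleGroup

theorem QHyp.nonab (H : QHyp p M b Q θ σ) : ¬ IsMulCommutative S := by
  intro hab
  have := H.simple
  have h1 : commutator K ≤ σ.ker := by
    rw [commutator_def, Subgroup.commutator_le]
    intro a _ c _
    rw [MonoidHom.mem_ker, map_commutatorElement, commutatorElement_eq_one_iff_mul_comm]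
    exact hab.is_comm.comm _ _
  rw [H.qs.1.commutator_eq_top] at h1
  obtain ⟨x, hx⟩ := exists_ne (1 : S)
  obtain ⟨a, rfl⟩ := H.surj x
  exact hx (h1 (Subgroup.mem_top _))

end

/-- **the rows for all covers, odd primes** -/
theorem RowsO.aut (R : RowsO) (cfsg : ∀ (S : Type) [Group S] [Finite S] [IsSimpleGroup S], IsKnownSimple' S) {p : ℕ}
    [Fact p.Prime] (hp : p ≠ 2) (M : Ideal AlgInt) : AUT p M := by
  intro K _ _ S _ σ b Q θ H
  have := H.simple
  have := Finite.of_surjective σ H.surj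
  exact R.known p hp S H.nonab (cfsg S) K σ M b Q θ H

/-- **the rows for all covers, the prime `2`** -/
theorem Rows2.row (R : Rows2) (cfsg : ∀ (S : Type) [Group S] [Finite S] [IsSimpleGroup S], IsKnownSimple' S)
    {M : Ideal AlgInt} {K : Type} [Group K] [Finite K] {S : Type} [Group S] {σ : K →* S} {b : Set (IrrCharacter K)}
    {Q : Subgroup K} {θ : K → ℂ} (H : QHyp 2 M b Q θ σ) :
    In Q θ ≤ Ce Q ∨ (KM.Two.Idx Q θ ∧ OutC S) ∨ (Three b ∧ AutOK 2 b Q θ) := by
  have := H.simple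
  have := Finite.of_surjective σ H.surj
  exact R.known S H.nonab (cfsg S) K σ M b Q θ H

/-- a nilpotent block -/
theorem autOK_of_nil {p : ℕ} {K : Type} [Group K] {b : Set (IrrCharacter K)} {Q : Subgroup K} {θ : K → ℂ}
    (h : In Q θ ≤ Ce Q) : AutOK p b Q θ := fun _ _ H => Or.inl fun α hα _ u hu => H.cz α hα u
  ⟨hu, Subgroup.mem_centralizer_iff.2 fun _ ht => (Subgroup.mem_centralizer_iff.1 (h ht) u hu).symm⟩

theorem Rows2.aut (R : Rows2) (cfsg : ∀ (S : Type) [Group S] [Finite S] [IsSimpleGroup S], IsKnownSimple' S)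
    {M : Ideal AlgInt} (hV : BoxV4 M) : AUT 2 M := by
  intro K _ _ S _ σ b Q θ H
  rcases R.row cfsg H with h | h | h
  exacts [autOK_of_nil h, hV K S σ b Q θ H h.1 h.2, h.2]

end Cfsg.Agent.BH
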