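import Cfsg.Agent.BH.RowE.Gen
import Cfsg.Agent.H458.B3.Sp
import Cfsg.Agent.H493.NCRow.OutE6
import Cfsg.Agent.H493.NCRow.OutTwE6
import Cfsg.Agent.H523.FpfCycFam
import Cfsg.Agent.S0243
import Cfsg.Agent.S0280
import Cfsg.Agent.S1035
import Cfsg.Agent.S1102
import Cfsg.Agent.S2601
import Cfsg.Agent.S2602
import Cfsg.Agent.S2603
import Cfsg.Agent.S2604
import Cfsg.Agent.S2606
import Cfsg.Agent.S2608

/-!
# BH (S4524), rows: `OutC` for the groups of Lie type (helper18)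
-/

set_option autoImplicit false

namespace Cfsg.Agent.BH

open Cfsg Cfsg.Lie Cfsg.Agent.KM

namespace RowE

theorem exists_pf (F : Type) [Field F] [Fintype F] : ∃ (r f : ℕ) (_ : Fact r.Prime), CharP F r ∧ 1 ≤ f ∧
    Fintype.card F = r ^ f := by
  obtain ⟨r, hr⟩ := CharP.exists F
  obtain ⟨n, h1, h2⟩ := FiniteField.card F r
  exact ⟨r, n, ⟨h1⟩, hr, n.2, h2⟩

theorem ne_two {F : Type} [Field F] {r : ℕ} [CharP F r] (h : ((2 : ℕ) : F) ≠ 0) : r ≠ 2 := by
  rintro rfl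
  exact h (CharP.cast_eq_zero F 2)

theorem dvd_of_cube {d a s n P : ℕ} (ha : 0 < a) (hd : d ∣ a) (hn : 3 ≤ n) (h : d * (a * s) = P) (hP : a ^ n ∣ P) :
    d ∣ s := by
  have h0 : 0 < d := Nat.pos_of_dvd_of_pos hd ha
  have h1 : d * (a * d) ∣ d * (a * s) := by
    rw [h]
    refine Dvd.dvd.trans ?_ ((pow_dvd_pow a hn).trans hP)
    rw [pow_succ', pow_two]
    exact mul_dvd_mul hd (mul_dvd_mul_left a hd)
  exact (Nat.mul_dvd_mul_iff_left ha).1 ((Nat.mul_dvd_mul_iff_left h0).1 h1)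

theorem gcd_dvd_psl {F : Type} [Field F] [Fintype F] {n : ℕ} (hn : 3 ≤ n) :
    Nat.gcd n (Fintype.card F - 1) ∣ Nat.card (Matrix.ProjectiveSpecialLinearGroup (Fin n) F) := by
  have h1 : 1 < Fintype.card F := Fintype.one_lt_card
  refine dvd_of_cube (by omega) (Nat.gcd_dvd_right _ _) hn (S0243.result rfl n (by omega)) ?_
  rw [show (Fintype.card F - 1) ^ n = ∏ _i : Fin n, (Fintype.card F - 1) by simp]
  refine Finset.prod_dvd_prod_of_dvd _ _ fun i _ => ?_
  have h2 := Nat.sub_dvd_pow_sub_pow (Fintype.card F) 1 (n - i)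
  rw [one_pow] at h2
  have h3 : Fintype.card F ^ n - Fintype.card F ^ (i : ℕ) = Fintype.card F ^ (i : ℕ) * (Fintype.card F ^ (n - i) - 1) := by
    rw [Nat.mul_sub, mul_one, ← pow_add, Nat.add_sub_cancel' i.2.le]
  rw [h3]
  exact h2.mul_left _

theorem gcd_dvd_psu {F : Type} [Field F] [Fintype F] {n q : ℕ} (hF : Fintype.card F = q ^ 2) (hn : 3 ≤ n) :
    Nat.gcd n (q + 1) ∣ Nat.card (PSU n F q) := by
  refine dvd_of_cube (by omega) (Nat.gcd_dvd_right _ _) hn (S0280.result hF n (by omega)) (Dvd.dvd.mul_left ?_ _)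
  conv_lhs => rw [← Finset.card_range n, ← Finset.prod_const]
  refine Finset.prod_dvd_prod_of_dvd _ _ fun i _ => ?_
  split_ifs with h
  · simpa using Odd.nat_add_dvd_pow_add_pow q 1 h.add_one
  · obtain ⟨k, hk⟩ := (Nat.not_even_iff_odd.1 h).add_one
    have h2 := Nat.sub_dvd_pow_sub_pow (q ^ 2) 1 k
    rw [one_pow, ← pow_mul, two_mul, ← hk] at h2
    refine Dvd.dvd.trans ⟨q - 1, ?_⟩ h2
    exact Nat.sq_sub_sq q 1

variable {S : Type} [Group S] [Finite S]

theorem outC_of_dih {f : ℕ} (e : Out S ≃* DihedralGroup 4 × Multiplicative (ZMod f)) : OutC S := by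
  have h1 : ∀ a b : DihedralGroup 4, a * b * a⁻¹ * b⁻¹ = 1 ∨ a * b * a⁻¹ * b⁻¹ = DihedralGroup.r 2 := by decide
  have h2 : Nat.card (Subgroup.zpowers (e.symm (DihedralGroup.r 2, 1))) ≤ 2 := by
    rw [Nat.card_zpowers]
    refine orderOf_le_of_pow_eq_one two_pos ?_
    rw [← map_pow, Prod.pow_mk, one_pow, show (DihedralGroup.r 2 : DihedralGroup 4) ^ 2 = 1 by decide]
    exact map_one e.symm
  refine outC_of_small (Subgroup.zpowers (e.symm (DihedralGroup.r 2, 1))) ?_ (by omega) (by omega)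
  rw [commutator_def, Subgroup.commutator_le]
  intro a _ b _
  rw [commutatorElement_def]
  have h3 : (e (a * b * a⁻¹ * b⁻¹)).2 = 1 := by
    rw [map_mul, map_mul, map_mul, map_inv, map_inv]
    exact commutatorElement_eq_one_iff_mul_comm.2 (mul_comm (e a).2 (e b).2)
  have h4 : (e (a * b * a⁻¹ * b⁻¹)).1 = (e a).1 * (e b).1 * (e a).1⁻¹ * (e b).1⁻¹ := by
    rw [map_mul, map_mul, map_mul, map_inv, map_inv]
    rfl
  rcases h1 (e a).1 (e b).1 with h | h
  · rw [show a * b * a⁻¹ * b⁻¹ = 1 from e.injective ((Prod.ext (h4.trans h) h3).trans (map_one e).symm)]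
    exact one_mem _
  · rw [show a * b * a⁻¹ * b⁻¹ = e.symm (DihedralGroup.r 2, 1) from e.eq_symm_apply.2 (Prod.ext (h4.trans h) h3)]
    exact Subgroup.mem_zpowers _

omit [Finite S] in
theorem outC_of_cycOut (h : H523.CycOut S) : OutC S := by
  obtain ⟨β, h⟩ := h
  refine outC_of_isCyclic ⟨⟨(β : Out S), fun x => ?_⟩⟩
  obtain ⟨α, rfl⟩ := QuotientGroup.mk_surjective x
  obtain ⟨g, k, rfl⟩ := h α
  refine Subgroup.mem_zpowers_iff.2 ⟨k, ?_⟩
  rw [QuotientGroup.mk_mul, (QuotientGroup.eq_one_iff (N := Inn S) (MulAut.conj g)).2 ⟨g, rfl⟩, one_mul,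
    QuotientGroup.mk_zpow]

theorem outC_chev {D : ChevalleyDatum} (hD' : D ∈ [chevG2, chevB2, chevF4, chevE6, chevE7, chevE8])
    {F : Type} [Field F] [Fintype F] (e : S ≃* D.group F) {d : ℕ} (hd : d ≤ 3) (h3 : d = 3 → 3 ∣ Fintype.card F - 1)
    (hr : 2 ≤ D.rank) (h : d * Nat.card (D.diagonalSubgroup F) = (Fintype.card F - 1) ^ D.rank) : OutC S := by
  have hD : ChevalleyStructure.Elts.InList D := by
    simp only [List.mem_cons, List.not_mem_nil, or_false] at hD'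
    rcases hD' with rfl | rfl | rfl | rfl | rfl | rfl <;> simp [ChevalleyStructure.Elts.InList]
  have := Finite.of_equiv S e.toEquiv
  have h5 := H442.OutCyc.card_DB_le hD F (d := d) (by rwa [Nat.card_eq_fintype_card (α := F)])
  refine OutC.of_equiv e (outC_of_small _ (H493.NCRow.commutator_le_DB hD hD' F) (h5.trans hd) fun h6 => ?_)
  obtain rfl : d = 3 := by omega
  have h7 : 3 * 3 ∣ 3 * Nat.card (D.diagonalSubgroup F) := by
    rw [h, ← pow_two]
    exact (pow_dvd_pow_of_dvd (h3 rfl) 2).trans (pow_dvd_pow _ hr)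
  exact ((Nat.mul_dvd_mul_iff_left three_pos).1 h7).trans
    (Subgroup.card_dvd_of_le (ChevalleyStructure.Elts.diagonal_le_group hD F))

end RowE

open RowE

variable {p : ℕ} {S : Type} [Group S] [Finite S]

theorem outC_psl2 {F : Type} [Field F] [Fintype F] (h4 : 4 ≤ Fintype.card F)
    (e : S ≃* Matrix.ProjectiveSpecialLinearGroup (Fin 2) F) : OutC S := by
  have := Finite.of_equiv S e.toEquiv
  obtain ⟨r, f, _, -, hf, hF⟩ := exists_pf F
  obtain ⟨φ, -, -, h2⟩ := S2602.result hf hF (hF ▸ h4)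
  have h3 := Nat.gcd_le_left (m := 2) (r ^ f - 1) two_pos
  exact OutC.of_equiv e (outC_of_small φ.ker (Abelianization.commutator_subset_ker φ) (by omega) (by omega))

theorem outC_psl (h : CPsl p S) : OutC S := by
  obtain ⟨F, _, _, n, -, hn, h4, ⟨e⟩⟩ := h
  by_cases h2 : n = 2
  · subst h2
    exact outC_psl2 (h4 rfl) e
  have := Finite.of_equiv S e.toEquiv
  obtain ⟨r, f, _, -, hf, hF⟩ := exists_pf F
  obtain ⟨φ, -, h1, h3⟩ := S2601.result (n := n) hf hF (by omega)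
  exact OutC.of_equiv e (outC_of_hom φ h1 fun k hk => hk.trans (by rw [h3, ← hF]; exact gcd_dvd_psl (by omega)))

theorem outC_psu (h : CPsu p S) : OutC S := by
  obtain ⟨F, _, _, n, q, -, hq, hn, h32, ⟨e⟩⟩ := h
  have := Finite.of_equiv S e.toEquiv
  obtain ⟨r, f, hr, -, hf, hF⟩ := exists_pf F
  obtain ⟨g, -, hg⟩ := (Nat.dvd_prime_pow hr.out).1 (show q ∣ r ^ f by rw [← hF, hq]; exact dvd_pow_self q two_ne_zero)
  have h0 : 1 ≤ g := by
    by_contra h0
    have h1 : 1 < Fintype.card F := Fintype.one_lt_card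
    rw [hq, hg, show g = 0 by omega] at h1
    simp at h1
  obtain ⟨φ, -, h1, h3⟩ := S2603.result h0 hg hq hn h32
  exact OutC.of_equiv e (outC_of_hom φ h1 fun k hk => hk.trans (by rw [h3]; exact gcd_dvd_psu hq hn))

omit [Finite S] in
theorem outC_psp (h : CPsp 2 S) : OutC S := by
  obtain ⟨F, _, _, m, h2, hm, -, ⟨e⟩⟩ := h
  refine OutC.of_equiv e (outC_of_comm ?_)
  rw [commutator_def, Subgroup.commutator_le]
  exact fun a _ b _ => H458.B3Sp.comm_mem hm (by exact_mod_cast h2) a b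

omit [Finite S] in
theorem outC_odd (h : COdd p S) : OutC S := by
  obtain ⟨F, _, _, m, -, hm, ho, ⟨e⟩⟩ := h
  obtain ⟨r, f, hr, -, hf, hF⟩ := exists_pf F
  have h2 : r ≠ 2 := by
    rintro rfl
    rw [hF] at ho
    exact absurd (Nat.odd_pow_iff (by omega) |>.1 ho) (by decide)
  exact OutC.of_equiv e (outC_of_equiv_comm (S2604.result hf hF h2 hm).some)

theorem outC_plus_of {F : Type} [Field F] [Fintype F] (h2 : ((2 : ℕ) : F) ≠ 0) {m : ℕ} (hm : 5 ≤ m)
    (e : S ≃* POmega F (quadFormPlus m F)) : OutC S := by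
  have := Finite.of_equiv S e.toEquiv
  obtain ⟨r, f, hr, _, hf, hF⟩ := exists_pf F
  have h := S2608.result (m := m) hf hF (ne_two h2) (by omega)
  rw [if_neg (by omega)] at h
  split_ifs at h
  exacts [OutC.of_equiv e (outC_of_equiv_comm h.some), OutC.of_equiv e (outC_of_dih h.some)]

/-- the exception is `PΩ₈⁺(q)` -/
theorem outC_plus (h : CPlus 2 S) : OutC S ∨ ∃ (F : Type) (_ : Field F) (_ : Fintype F), ((2 : ℕ) : F) ≠ 0 ∧
    Nonempty (S ≃* POmega F (quadFormPlus 4 F)) := by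
  obtain ⟨F, _, _, m, h2, hm, ⟨e⟩⟩ := h
  by_cases h4 : m = 4
  · subst h4
    exact Or.inr ⟨F, inferInstance, inferInstance, h2, ⟨e⟩⟩
  · exact Or.inl (outC_plus_of h2 (by omega) e)

theorem outC_minus (h : CMinus 2 S) : OutC S := by
  obtain ⟨F, _, _, m, a, b, h2, hm, hab, ⟨e⟩⟩ := h
  have := Finite.of_equiv S e.toEquiv
  obtain ⟨r, f, hr, _, hf, hF⟩ := exists_pf F
  have h := S2606.result hf hF (ne_two h2) hm a b hab
  split_ifs at h
  exacts [OutC.of_equiv e (outC_of_dih h.some), OutC.of_equiv e (outC_of_equiv_comm h.some)]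

theorem outC_g2 (h : CG2 p S) : OutC S := by
  obtain ⟨F, _, _, -, -, ⟨e⟩⟩ := h
  exact outC_chev (by simp) e (d := 1) (by omega) (by omega) (by decide) (S1035.result rfl (chevG2, 1) (by simp))

theorem outC_f4 (h : CF4 p S) : OutC S := by
  obtain ⟨F, _, _, -, ⟨e⟩⟩ := h
  exact outC_chev (by simp) e (d := 1) (by omega) (by omega) (by decide) (S1035.result rfl (chevF4, 1) (by simp))

theorem outC_e8 (h : CE8 p S) : OutC S := by
  obtain ⟨F, _, _, -, ⟨e⟩⟩ := h
  exact outC_chev (by simp) e (d := 1) (by omega) (by omega) (by decide) (S1035.result rfl (chevE8, 1) (by simp))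

theorem outC_e7 (h : CE7 p S) : OutC S := by
  obtain ⟨F, _, _, -, ⟨e⟩⟩ := h
  have h1 := Nat.gcd_le_left (m := 2) (Fintype.card F - 1) two_pos
  exact outC_chev (by simp) e (d := Nat.gcd 2 (Fintype.card F - 1)) (by omega) (by omega) (by decide)
    (S1035.result rfl (chevE7, _) (by simp))

theorem outC_e6 (h : CE6 p S) : OutC S := by
  obtain ⟨F, _, _, -, ⟨e⟩⟩ := h
  exact outC_chev (by simp) e (d := Nat.gcd 3 (Fintype.card F - 1)) (Nat.gcd_le_left _ three_pos)
    (fun h => h.symm.dvd.trans (Nat.gcd_dvd_right _ _)) (by decide) (S1035.result rfl (chevE6, _) (by simp))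

theorem outC_te6 (h : CTe6 p S) : OutC S := by
  obtain ⟨K, _, _, q, -, hq, hK, ⟨e⟩⟩ := h
  have := Finite.of_equiv S e.toEquiv
  obtain ⟨N, _, h1, h2⟩ := H493.NCRow.exists_N_TwE6 hq hK
  refine OutC.of_equiv e (outC_of_small N ?_ (h1.le.trans (Nat.gcd_le_left _ three_pos)) fun h3 => ?_)
  · exact Subgroup.Normal.quotient_commutative_iff_commutator_le.1 ⟨⟨(IsCyclic.commGroup (α := _ ⧸ N)).mul_comm⟩⟩
  · have h4 := S1102.result (K := K) hq hK
    rw [h1] at h3
    have h5 : 3 ∣ q + 1 := h3.symm.dvd.trans (Nat.gcd_dvd_right _ _)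
    have h7 : 3 * 3 ∣ 3 * Nat.card ↥(chevE6.diagonalSubgroup K ⊓ twistedE6 K q) := by
      rw [h3] at h4
      rw [h4, ← pow_two]
      exact (pow_dvd_pow_of_dvd h5 2).mul_left _
    exact ((Nat.mul_dvd_mul_iff_left three_pos).1 h7).trans (Subgroup.card_dvd_of_le inf_le_right)

omit [Finite S] in
theorem outC_td4 (h : CTd4 p S) : OutC S := by
  obtain ⟨K, _, _, q, -, hq, hK, ⟨e⟩⟩ := h
  obtain ⟨r, f, hr, _, -, -⟩ := exists_pf K
  exact OutC.of_equiv e (outC_of_cycOut (H523.TwD4.cycOut hq hK r))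

omit [Finite S] in
theorem outC_ree (h : IsoRee S) : OutC S := outC_of_cycOut (H523.cycOut_ree h)

omit [Finite S] in
theorem outC_sz (h : IsoSuzuki S) : OutC S := outC_of_cycOut (H523.cycOut_suzuki h)

omit [Finite S] in
theorem outC_tf4 (h : Iso2F4 S) : OutC S := outC_of_cycOut (H523.cycOut_twF4 h)

end Cfsg.Agent.BH
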