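import Cfsg.Agent.BH.RowE.Gen
import Cfsg.Agent.H171.AltGoal
import Cfsg.Agent.H149.Sp.Base
import Cfsg.Agent.H867.TitsOut

/-!
# BH (S4524), rows: alternating groups, sporadic groups, the Tits group (helper18)
-/

set_option autoImplicit false

namespace Cfsg.Agent.BH

open Cfsg Cfsg.Agent.KM

namespace RowE

variable {S : Type} [Group S]

theorem out_alt (h : IsAlternating S) : Nat.card (Out S) = 2 ∨ Nat.card (Out S) = 4 := by
  obtain ⟨n, hn, ⟨e⟩⟩ := h
  rw [card_out e]
  by_cases h6 : n = 6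
  · subst h6
    have h1 := H171.AltGoal.card_out_mul (H171.AltGoal.center_alt hn)
    rw [H824.ProdLem.card_a6, H824.ProdLem.card_aut_a6] at h1
    omega
  · exact Or.inl (H171.AltGoal.card_out hn h6)

theorem out_tits [Finite S] (h : Lie.IsoTits S) : Nat.card (Out S) ∣ 2 := by
  have h1 := H867.TitsOut.card_out_le h
  have h2 : 0 < Nat.card (Out S) := Nat.card_pos
  interval_cases Nat.card (Out S) <;> decide

theorem rowO_of_four {p : ℕ} [hp : Fact p.Prime] (h2 : p ≠ 2) (h : Nat.card (Out S) ∣ 4) : RowO p S :=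
  rowO_of_out fun h1 => h2 ((Nat.prime_dvd_prime_iff_eq hp.out Nat.prime_two).1
    (hp.out.dvd_of_dvd_pow (show p ∣ 2 ^ 2 from h1.trans h)))

theorem outC_of_two [Finite S] (h : Nat.card (Out S) ∣ 2) : OutC S := by
  have h1 := Nat.le_of_dvd two_pos h
  refine outC_of_small ⊤ le_top ?_ ?_ <;> rw [Subgroup.card_top] <;> omega

end RowE

open RowE

theorem rowO_alt : RowOFor CAlt := fun _ _ hp _ _ _ _ _ h =>
  rowO_of_four hp ((out_alt h).elim (fun e => e ▸ ⟨2, rfl⟩) fun e => e ▸ dvd_rfl)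

theorem rowO_spor : RowOFor CSpor := fun _ _ hp _ _ _ _ _ h =>
  rowO_of_four hp ((H149.Sp.card_out_dvd_two h).trans ⟨2, rfl⟩)

theorem rowO_tits : RowOFor CTits := fun _ _ hp _ _ _ _ _ h => rowO_of_four hp ((out_tits h).trans ⟨2, rfl⟩)

variable {S : Type} [Group S] [Finite S]

theorem outC_alt (h : IsAlternating S) : OutC S := by
  rcases out_alt h with e | e
  · exact outC_of_two e.dvd
  · exact @outC_of_equiv_comm S _ (Out S) (IsPGroup.commGroupOfCardEqPrimeSq (p := 2) e) (MulEquiv.refl _)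

theorem outC_spor (h : IsSporadicGroup S) : OutC S := outC_of_two (H149.Sp.card_out_dvd_two h)

theorem outC_tits (h : Lie.IsoTits S) : OutC S := outC_of_two (out_tits h)

end Cfsg.Agent.BH
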