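import Cfsg.Agent.BH.Defs
import Cfsg.Agent.TO.RedA
import Cfsg.Agent.R2.RkInt.Quasi

/-!
# BH (S4524), rows: general tools (helper18)

* `QHyp.congr`, `RowO.of_equiv`, `OutC.of_equiv`, `Row2.of_equiv`;
* `QHyp.exists_dn` : the automorphisms of the cover act on the simple quotient;
* `rowO_of_out` (`p` does not divide `|Out S|`), `rowO_cyclic` (cyclic defect group), `autOK_of_ab`;
* criteria for `OutC`.
-/

set_option autoImplicit false

namespace Cfsg.Agent.BH

open Cfsg Cfsg.Agent.TO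

namespace RowE

/-- `OutC` for a group `Γ` with a subgroup `I` -/
def OC {Γ : Type} [Group Γ] (I : Subgroup Γ) (n : ℕ) : Prop :=
  ⁅commutator Γ, commutator Γ⁆ ≤ I ∧ ∃ δ ∈ commutator Γ, ∃ k : ℕ,
    δ ^ 3 ^ k ∈ I ∧ 3 ^ k ∣ n ∧ ¬ 3 ∣ (Subgroup.zpowers δ ⊔ I).relIndex (commutator Γ ⊔ I)

theorem OC.comap {Γ Γ' : Type} [Group Γ] [Group Γ'] (f : Γ' →* Γ) (hf : Function.Surjective f) {I : Subgroup Γ} {n : ℕ}
    (h : OC I n) : OC (I.comap f) n := by
  obtain ⟨h1, δ, h2, k, h3, h4, h5⟩ := h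
  have e : (commutator Γ').map f = commutator Γ := by
    rw [map_commutator_eq, MonoidHom.range_eq_top.2 hf, commutator_def]
  rw [← e] at h2
  obtain ⟨δ', h2, rfl⟩ := h2
  refine ⟨?_, δ', h2, k, ?_, h4, ?_⟩
  · rwa [← Subgroup.map_le_iff_le_comap, Subgroup.map_commutator, e]
  · rwa [Subgroup.mem_comap, map_pow]
  · have e1 : Subgroup.zpowers δ' ⊔ I.comap f = (Subgroup.zpowers (f δ') ⊔ I).comap f := by
      rw [← Subgroup.comap_sup_eq f _ _ hf, ← MonoidHom.map_zpowers, Subgroup.comap_map_eq, sup_assoc,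
        sup_eq_right.2 (Subgroup.ker_le_comap f I)]
    rwa [e1, Subgroup.relIndex_comap, Subgroup.map_sup, e, Subgroup.map_comap_eq_self_of_surjective hf]

theorem oc_bot {Γ : Type} [Group Γ] [Finite Γ] {n : ℕ} (hc : IsCyclic (commutator Γ))
    (h : ∀ k, 3 ^ k ∣ Nat.card (commutator Γ) → 3 ^ k ∣ n) : OC (⊥ : Subgroup Γ) n := by
  have : Fact (Nat.Prime 3) := ⟨Nat.prime_three⟩
  obtain ⟨P⟩ : Nonempty (Sylow 3 (commutator Γ)) := inferInstance
  obtain ⟨δ, hδ⟩ := (Subgroup.isCyclic_iff_exists_zpowers_eq_top (P : Subgroup (commutator Γ))).1 inferInstance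
  obtain ⟨k, hk⟩ := IsPGroup.iff_card.1 P.isPGroup'
  refine ⟨?_, δ, δ.2, k, ?_, h k (hk ▸ Subgroup.card_subgroup_dvd_card _), ?_⟩
  · rw [Subgroup.commutator_le]
    intro a ha b hb
    rw [Subgroup.mem_bot, commutatorElement_eq_one_iff_mul_comm]
    exact congrArg Subtype.val ((IsCyclic.commGroup (α := commutator Γ)).mul_comm ⟨a, ha⟩ ⟨b, hb⟩)
  · rw [Subgroup.mem_bot, ← hk, ← hδ, Nat.card_zpowers, ← Subgroup.coe_pow, pow_orderOf_eq_one, Subgroup.coe_one]
  · have e : (Subgroup.zpowers (δ : Γ)).subgroupOf (commutator Γ) = P := by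
      rw [← hδ]
      exact (congrArg _ (MonoidHom.map_zpowers (commutator Γ).subtype δ).symm).trans
        (Subgroup.comap_map_eq_self_of_injective (commutator Γ).subtype_injective _)
    rw [sup_bot_eq, sup_bot_eq, Subgroup.relIndex, e]
    exact P.not_dvd_index

theorem inn_comap {S T : Type} [Group S] [Group T] (e : S ≃* T) :
    (Inn T).comap (MulAut.congr e).toMonoidHom = Inn S := by
  ext α
  constructor
  · rintro ⟨t, ht⟩
    refine ⟨e.symm t, MulEquiv.ext fun x => e.injective ?_⟩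
    have h := DFunLike.congr_fun ht (e x)
    simpa using h
  · rintro ⟨s, rfl⟩
    exact ⟨e s, MulEquiv.ext fun x => by simp⟩

theorem card_out {S T : Type} [Group S] [Group T] (e : S ≃* T) : Nat.card (Out S) = Nat.card (Out T) := by
  have h := Subgroup.index_comap_of_surjective (Inn T) (f := (MulAut.congr e).toMonoidHom) (MulAut.congr e).surjective
  rw [inn_comap] at h
  exact h

theorem mem_of_pow {B : Type} [Group B] {p : ℕ} (hp : p.Prime) (H : Subgroup B) [H.Normal] (h : ¬ p ∣ H.index) {x : B}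
    {k : ℕ} (hx : x ^ p ^ k ∈ H) : x ∈ H := by
  have h1 : orderOf (x : B ⧸ H) ∣ p ^ k := orderOf_dvd_of_pow_eq_one ((QuotientGroup.eq_one_iff _).2 hx)
  have h2 : orderOf (x : B ⧸ H) ∣ H.index := orderOf_dvd_natCard _
  have h3 := Nat.eq_one_of_dvd_coprimes (((Nat.Prime.coprime_iff_not_dvd hp).2 h).pow_left k) h1 h2
  exact (QuotientGroup.eq_one_iff _).1 (orderOf_eq_one_iff.1 h3)

end RowE

open RowE

section congr

variable {S T : Type} [Group S] [Group T]

theorem QHyp.congr {p : ℕ} {M : Ideal AlgInt} {K : Type} [Group K] {b : Set (IrrCharacter K)} {Q : Subgroup K} {θ : K → ℂ}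
    {σ : K →* S} (H : QHyp p M b Q θ σ) (e : S ≃* T) : QHyp p M b Q θ (e.toMonoidHom.comp σ) :=
  { H with
    surj := e.surjective.comp H.surj
    ker := by
      rw [← H.ker]
      ext x
      simp [MonoidHom.mem_ker] }

theorem RowO.of_equiv {p : ℕ} (e : S ≃* T) (h : RowO p T) : RowO p S :=
  fun K _ _ _ M b Q θ H => h K _ M b Q θ (H.congr e)

theorem OutC.of_equiv (e : S ≃* T) (h : OutC T) : OutC S := by
  have h1 := OC.comap (MulAut.congr e).toMonoidHom (MulAut.congr e).surjective (I := Inn T) (n := Nat.card T) h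
  rwa [inn_comap, ← Nat.card_congr e.toEquiv] at h1

theorem Row2.of_equiv (e : S ≃* T) (h : Row2 T) : Row2 S := fun K _ _ _ M b Q θ H =>
  (h K _ M b Q θ (H.congr e)).imp_right (Or.imp_left (And.imp_right (OutC.of_equiv e)))

/-- the derived group of `Out S` is cyclic -/
theorem outC_of_cyc [Finite S] (hc : IsCyclic (commutator (Out S)))
    (h : ∀ k, 3 ^ k ∣ Nat.card (commutator (Out S)) → 3 ^ k ∣ Nat.card S) : OutC S := by
  have h1 := OC.comap (QuotientGroup.mk' (Inn S)) (QuotientGroup.mk'_surjective _) (oc_bot hc h)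
  rwa [MonoidHom.comap_bot, QuotientGroup.ker_mk'] at h1

/-- the derived group of `Out S` lies in a cyclic group -/
theorem outC_of_le [Finite S] (N : Subgroup (Out S)) (hN : commutator (Out S) ≤ N) (hc : IsCyclic N)
    (h : ∀ k, 3 ^ k ∣ Nat.card N → 3 ^ k ∣ Nat.card S) : OutC S :=
  outC_of_cyc (Subgroup.isCyclic_of_le hN) fun k hk => h k (hk.trans (Subgroup.card_dvd_of_le hN))

theorem outC_of_hom [Finite S] {C : Type} [CommGroup C] (φ : Out S →* C) (hc : IsCyclic φ.ker)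
    (h : ∀ k, 3 ^ k ∣ Nat.card φ.ker → 3 ^ k ∣ Nat.card S) : OutC S :=
  outC_of_le φ.ker (Abelianization.commutator_subset_ker φ) hc h

/-- the derived group of `Out S` has order at most three -/
theorem outC_of_small [Finite S] (N : Subgroup (Out S)) (hN : commutator (Out S) ≤ N) (h3 : Nat.card N ≤ 3)
    (h : Nat.card N = 3 → 3 ∣ Nat.card S) : OutC S := by
  have h0 : 0 < Nat.card N := Nat.card_pos
  refine outC_of_le N hN ?_ fun k hk => ?_
  · have h1 : Nat.card N = 1 ∨ Nat.card N = 2 ∨ Nat.card N = 3 := by omega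
    have : Fact (Nat.Prime 3) := ⟨Nat.prime_three⟩
    rcases h1 with h1 | h1 | h1
    · have := (Nat.card_eq_one_iff_unique.1 h1).1
      exact isCyclic_of_subsingleton
    · exact isCyclic_of_prime_card h1
    · exact isCyclic_of_prime_card h1
  · have h1 := Nat.le_of_dvd h0 hk
    rcases k with _ | _ | k
    · exact one_dvd _
    · exact h (by omega)
    · have : 0 < 3 ^ k := by positivity
      rw [pow_succ, pow_succ] at h1
      omega

/-- `Out S` is abelian -/
theorem outC_of_comm (h : commutator (MulAut S) ≤ Inn S) : OutC S := by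
  refine ⟨(Subgroup.commutator_le_left _ _).trans h, 1, one_mem _, 0, by simp, by simp, ?_⟩
  rw [sup_eq_right.2 h, Subgroup.relIndex_eq_one.2 le_sup_right]
  norm_num

theorem outC_of_equiv_comm {C : Type} [CommGroup C] (e : Out S ≃* C) : OutC S := by
  refine outC_of_comm ((Abelianization.commutator_subset_ker (e.toMonoidHom.comp (QuotientGroup.mk' (Inn S)))).trans ?_)
  intro α hα
  exact (QuotientGroup.eq_one_iff α).1 (e.injective (hα.trans (map_one e).symm))

theorem outC_of_isCyclic (h : IsCyclic (Out S)) : OutC S :=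
  @outC_of_equiv_comm S _ (Out S) IsCyclic.commGroup (MulEquiv.refl _)

end congr

section rows

variable {p : ℕ} {M : Ideal AlgInt} {K : Type} [Group K] {b : Set (IrrCharacter K)} {Q : Subgroup K} {θ : K → ℂ}
  {S : Type} [Group S] {σ : K →* S} {A A₀ : Subgroup (MulAut K)}

/-- the automorphisms of the cover act on the simple quotient -/
theorem QHyp.exists_dn (H : QHyp p M b Q θ σ) :
    ∃ f : MulAut K →* MulAut S, (∀ α g, σ (α g) = f α (σ g)) ∧ Function.Injective f ∧ (Inn S).comap f = Inn K := by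
  have h1 : ∀ α : MulAut K, ∃ β : MulAut S, ∀ g, σ (α g) = β (σ g) := fun α =>
    exists_ind H.surj (by rw [H.ker]; exact fun g => aut_center α) (by rw [H.ker]; exact fun g => aut_center α⁻¹)
  choose f hf using h1
  have h2 : ∀ α β, f α = f β → α = β := fun α β h => R2.RkInt.eq_of_perfect H.qs.1 _ _ fun g => by
    rw [← H.ker, MonoidHom.mem_ker, map_mul, map_inv, hf, hf, h, inv_mul_cancel]
  have h3 : ∀ k, f (MulAut.conj k) = MulAut.conj (σ k) := fun k => MulEquiv.ext fun x => by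
    obtain ⟨g, rfl⟩ := H.surj x
    rw [← hf]
    simp
  refine ⟨MonoidHom.mk' f fun α β => MulEquiv.ext fun x => ?_, hf, h2, ?_⟩
  · obtain ⟨g, rfl⟩ := H.surj x
    rw [← hf, MulAut.mul_apply, MulAut.mul_apply, ← hf, ← hf]
  · ext α
    constructor
    · rintro ⟨s, hs⟩
      obtain ⟨k, rfl⟩ := H.surj s
      exact ⟨k, h2 _ _ ((h3 k).trans hs)⟩
    · rintro ⟨k, rfl⟩
      exact ⟨σ k, (h3 k).symm⟩

/-- the prime divides the order of the outer automorphism group -/
theorem AHyp.dvd_out (H : QHyp p M b Q θ σ) (h : AHyp p b Q θ A A₀) : p ∣ Nat.card (Out S) := by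
  obtain ⟨f, -, -, hf⟩ := H.exists_dn
  have h1 := Subgroup.relIndex_dvd_of_le_left A h.inn
  rw [h.index, ← hf, Subgroup.relIndex_comap] at h1
  exact h1.trans (Subgroup.relIndex_dvd_index_of_normal _ _)

theorem autOK_of_out (H : QHyp p M b Q θ σ) (h : ¬ p ∣ Nat.card (Out S)) : AutOK p b Q θ :=
  fun _ _ h1 => absurd (h1.dvd_out H) h

/-- **`Out S` has order prime to `p`** -/
theorem rowO_of_out (h : ¬ p ∣ Nat.card (Out S)) : RowO p S := fun _ _ _ _ _ _ _ _ H => autOK_of_out H h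

theorem cen_of_cyclic [hp : Fact p.Prime] (hQ : IsCyclic Q) (h : ∀ u ∈ Q, ¬ p ∣ (FixE u).relIndex (A ⊓ LA Q θ)) :
    Cen p Q θ A := by
  obtain ⟨u, rfl⟩ := (Subgroup.isCyclic_iff_exists_zpowers_eq_top Q).1 hQ
  have key : ∀ α : MulAut K, α u = u → ∀ v ∈ Subgroup.zpowers u, α v = v := by
    rintro α hα _ ⟨n, rfl⟩
    rw [map_zpow, hα]
  intro α hα hp'
  obtain ⟨k, hk⟩ := pElt_iff.1 hp'
  have : ((FixE u).subgroupOf (A ⊓ LA (Subgroup.zpowers u) θ)).Normal := ⟨fun β hβ γ => by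
    have h1 := key β hβ _ ((((LA (Subgroup.zpowers u) θ).inv_mem γ.2.2).1 u).2 (Subgroup.mem_zpowers u))
    show (γ : MulAut K) ((β : MulAut K) ((γ : MulAut K)⁻¹ u)) = u
    rw [h1, MulAut.apply_inv_self]⟩
  refine key α (mem_of_pow hp.out _ (h u (Subgroup.mem_zpowers u)) (x := ⟨α, hα⟩) (k := k) ?_)
  rw [show (⟨α, hα⟩ : (A ⊓ LA (Subgroup.zpowers u) θ : Subgroup (MulAut K))) ^ p ^ k = 1 from Subtype.ext hk]
  exact one_mem _

/-- **cyclic defect groups** -/
theorem rowO_cyclic [Fact p.Prime] (hQ : IsCyclic Q) : AutOK p b Q θ := fun _ _ h => Or.inl (cen_of_cyclic hQ h.orbQ)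

theorem inn_le_fixF {χ : K → ℂ} (hχ : χ ∈ Fn b) : Inn K ≤ FixF χ := by
  rintro _ ⟨k, rfl⟩
  exact ⟨fun _ => Iff.rfl, congrFun (irr_comp_conj (Fn.irr hχ) k)⟩

/-- if `A` is abelian modulo the inner automorphisms, its `p`-elements fix all the members of the block -/
theorem AHyp.fix_of_ab [hp : Fact p.Prime] (h : AHyp p b Q θ A A₀) (hA : ⁅A, A⁆ ≤ Inn K) {α : MulAut K} (hα : α ∈ A)
    {k : ℕ} (hk : α ^ p ^ k ∈ Inn K) {χ : K → ℂ} (hχ : χ ∈ Fn b) : χ ∘ α = χ := by
  have : ((FixF χ).subgroupOf A).Normal := ⟨fun β hβ γ => by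
    have h1 := mul_mem (inn_le_fixF hχ (hA (Subgroup.commutator_mem_commutator γ.2 β.2))) (Subgroup.mem_subgroupOf.1 hβ)
    rwa [commutatorElement_def, inv_mul_cancel_right] at h1⟩
  exact funext (mem_of_pow hp.out _ (h.orb χ hχ) (x := ⟨α, hα⟩) (k := k) (inn_le_fixF hχ hk)).2

/-- `Out K` is abelian and the `p`-elements which fix all the members of the block are inner -/
theorem autOK_of_ab [Fact p.Prime] (hA : commutator (MulAut K) ≤ Inn K)
    (h : ∀ α : MulAut K, PElt p α → (∀ χ ∈ Fn b, χ ∘ α = χ) → α ∈ Inn K) : AutOK p b Q θ := by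
  refine fun A A₀ H => Or.inl fun α hα hp => H.c0 α ⟨H.inn (h α hp fun χ hχ => ?_), hα.2⟩ hp
  obtain ⟨k, hk⟩ := pElt_iff.1 hp
  exact H.fix_of_ab ((Subgroup.commutator_mono le_top le_top).trans hA) hα.1 (k := k) (hk ▸ one_mem _) hχ

/-- `Out K` is abelian if `Out S` is -/
theorem QHyp.comm_le (H : QHyp p M b Q θ σ) (h : commutator (MulAut S) ≤ Inn S) : commutator (MulAut K) ≤ Inn K := by
  obtain ⟨f, -, -, hf⟩ := H.exists_dn
  rw [← hf, ← Subgroup.map_le_iff_le_comap, map_commutator_eq]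
  exact (Subgroup.commutator_mono le_top le_top).trans h

theorem QHyp.pg (H : QHyp p M b Q θ σ) : IsPGroup p Q := BHZ.Nil.isPGroup_defect H.can.hD

theorem QHyp.hb (H : QHyp p M b Q θ σ) : IsPBlock M b := H.can.ind.2.1

/-- a central defect group is trivial -/
theorem QHyp.eq_bot [hp : Fact p.Prime] [Finite K] (H : QHyp p M b Q θ σ) (h : Q ≤ Subgroup.center K) : Q = ⊥ := by
  obtain ⟨n, hn⟩ := IsPGroup.iff_card.1 H.pg
  have h1 := Nat.eq_one_of_dvd_coprimes (((Nat.Prime.coprime_iff_not_dvd hp.out).2 H.zp).pow_left n) hn.dvd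
    (Subgroup.card_dvd_of_le h)
  exact Subgroup.card_eq_one.1 h1

/-- the order of the defect group divides the order of the simple group -/
theorem QHyp.card_dvd [hp : Fact p.Prime] [Finite K] (H : QHyp p M b Q θ σ) : Nat.card Q ∣ Nat.card S := by
  obtain ⟨n, hn⟩ := IsPGroup.iff_card.1 H.pg
  have h1 := Subgroup.card_subgroup_dvd_card Q
  rw [← σ.ker.card_mul_index, Subgroup.index_ker, MonoidHom.range_eq_top.2 H.surj, Subgroup.card_top, H.ker, hn] at h1
  rw [hn]
  exact (((Nat.Prime.coprime_iff_not_dvd hp.out).2 H.zp).pow_left n).dvd_of_dvd_mul_left h1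

theorem idx_of_card (h : Nat.card Q ≤ 4) : KM.Two.Idx Q θ :=
  ⟨⊥, bot_le, by rwa [Subgroup.relIndex_bot_left], fun t _ r hr => by rw [Subgroup.mem_bot.1 hr, mul_one, mul_inv_cancel]⟩

end rows

end Cfsg.Agent.BH
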